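import Mathlib
import Cfsg.Agent.Lib.Comput.Check3
import Cfsg.Agent.Lib.SuzR3.R.Data

/-! generated by tools/cgt -/

set_option autoImplicit false
set_option maxRecDepth 100000
set_option Elab.async false

namespace CfsgLib.SuzR3.R

open CfsgLib.Comput

def R7_0 : RepC := ⟨26, 1, [],
  []⟩
def S7_0 : GenC := ⟨26, [],
  [(0, 0, 0, 1, 0), (0, 1, 0, 0, 0)], 0⟩
def L7 : Level := ⟨0x0, 0x2000000, [], 1, 1, 0, 2, [R7_0], [S7_0]⟩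
def X7 : Ext := []

def R6_0 : RepC := ⟨25, 1, [(26, 26)],
  [(1, 1, [1])]⟩
def S6_0 : GenC := ⟨25, [(26, 26)],
  [(0, 0, 0, 1, 0), (0, 1, 0, 0, 26)], 0⟩
def L6 : Level := ⟨0x2000000, 0x3800000, [26], 2, 83, 0, 2, [R6_0], [S6_0]⟩
def X6 : Ext := [(23, 25, 0)]

def R5_0 : RepC := ⟨23, 1, [(25, 0x191a)],
  [(166, 3, [1])]⟩
def S5_0 : GenC := ⟨23, [(26, 26)],
  [(0, 0, 0, 1, 0), (0, 1, 0, 0, 0)], 0⟩
def L5 : Level := ⟨0x3800000, 0x3f00000, [25, 26], 4, 5, 0, 2, [R5_0], [S5_0]⟩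
def X5 : Ext := [(20, 0, 25), (21, 21, 0)]

def R4_0 : RepC := ⟨18, 2, [(26, 23), (23, 26)],
  [(146, 1, [1, 2])]⟩
def S4_0 : GenC := ⟨18, [(26, 23)],
  [(0, 0, 0, 1, 0), (0, 1, 0, 0, 0x171a), (25, 1, 25, 1, 25)], 0⟩
def L4 : Level := ⟨0x3f00000, 0x3ff0000, [23, 25, 26], 8, 27, 0, 3, [R4_0], [S4_0]⟩
def X4 : Ext := [(16, 18, 0), (18, 0, 0x1912191a), (19, 19, 0)]

def R3_0 : RepC := ⟨13, 6, [(23, 0x13171a), (0x131a, 23)],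
  [(2, 1, [1, 2])]⟩
def S3_0 : GenC := ⟨14, [(0x131a, 23), (23, 0x13171a)],
  [(0, 0, 26, 1, 26), (0, 1, 0, 0, 0), (26, 1, 0, 1, 26), (17, 1, 17, 1, 0x13191a)], 1⟩
def L3 : Level := ⟨0x3ff0000, 0x3fff000, [18, 23, 25, 26], 24, 52, 0, 7, [R3_0], [S3_0]⟩
def X3 : Ext := [(12, 14, 0), (14, 0, 0xe12), (15, 15, 0)]

def R2_0 : RepC := ⟨28, 7, [(0x10131a, 0x180e1217191a), (0x17191a, 0x190e1317191a)],
  [(5, 4, [1, 2])]⟩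
def R2_1 : RepC := ⟨0xd1b, 7, [(0x12171a, 0xe1217191a), (25, 0x190e171a)],
  [(38, 4, [1, 2])]⟩
def R2_2 : RepC := ⟨9, 21, [(0x171a, 0x17191a), (0x190e13191a, 0x110e12191a)],
  [(119, 2, [1, 2])]⟩
def S2_0 : GenC := ⟨27, [(0xe12, 0x110e131719), (0x131a, 23)],
  [(0, 0, 14, 2, 0), (0, 3, 0x110e, 2, 0x171a), (19, 3, 0, 3, 0x101719), (0, 1, 0, 0, 0), (0, 2, 14, 1, 14), (25, 1, 14, 3, 0x10131a), (13, 3, 25, 1, 0x110e17191a), (13, 2, 25, 3, 0xd121719)], 4⟩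
def L2 : Level := ⟨0x3fff000, 0xfffff00, [14, 18, 23, 25, 26], 168, 12, 0, 36, [R2_0, R2_1, R2_2], [S2_0]⟩
def X2 : Ext := [(27, 27, 0), (8, 0, 0x1c111b171a), (9, 9, 0), (10, 0, 0xe09180e131719), (11, 11, 0)]

def R1_0 : RepC := ⟨0xc1808, 36, [(0x180e12171a, 0xa0d1217), (0xe131a, 0xf0a1219)],
  [(379, 6, [1, 2])]⟩
def R1_1 : RepC := ⟨5, 63, [(0x181c0e121a, 0xf0a190e13191a), (0x191c1013171a, 0xb180e131719)],
  [(239, 6, [1, 2])]⟩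
def S1_0 : GenC := ⟨8, [(0x181c0e1a, 0x181b0d1317), (0x190e19, 0x18091319)],
  [(0, 0, 0x1009, 1, 0x91c0d121a), (0, 2, 0x1809, 1, 0xa0b101317), (13, 2, 0x1718, 2, 0xb0b12), (0x1a0b, 1, 0, 0, 0x170b0d12191a), (0x1009, 1, 0xb1c, 1, 0xb1a1b12), (0, 1, 0x1710, 2, 0x1a1b0d13), (28, 1, 28, 1, 0x191b1017)], 6⟩
def L1 : Level := ⟨0xfffff00, 0xffffff0, [27, 14, 18, 23, 25, 26], 6048, 3, 0, 100, [R1_0, R1_1], [S1_0]⟩
def X1 : Ext := [(6, 8, 0), (4, 0, 0x8170819091317191a), (5, 5, 0)]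

def R0_0 : RepC := ⟨0x1d111d, 100, [(0x111b0e171a, 0x1a08191b101719), (0x1b0d, 0xe071409190e12171a), (0x1b1217, 0x517081009190e1317191a)],
  [(254, 6, [1, 2, 3]), (115, 4, [1, 2])]⟩
def R0_1 : RepC := ⟨1, 315, [(0x1011080f0917, 0x1011080f0917), (0x5070d0a0e17, 0x1011081b1b0e171a), (0xc050d1b110e1317, 0x1c0507191b110e171a)],
  [(200, 5, [1, 2, 3]), (1, 3, [1, 2])]⟩
def S0_0 : GenC := ⟨29, [(0x10081019, 0x70b1c0d131a), (0x11050f0a, 0x51b08191c13191a)],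
  [(0, 0, 0x71808, 1, 0x13061c190e131719), (0, 2, 0xb19, 2, 0xa060d0a1012191a), (15, 2, 0x141a05, 1, 0xe081a1c19), (0xb0507, 1, 0, 0, 0xc050b190e1219), (5, 1, 0x1c08, 1, 0x7061809190e1a), (0, 1, 0x80d, 2, 0x12080d0a101a)], 7⟩
def L0 : Level := ⟨0xffffff0, 0x3fffffff, [8, 27, 14, 18, 23, 25, 26], 604800, 0, 0, 416, [R0_0, R0_1], [S0_0]⟩
def X0 : Ext := [(29, 29, 0), (0, 0, 0xf1d1c1d08060a0b1217191a), (1, 1, 0), (2, 0, 0x1e02), (3, 3, 0)]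

def top : List ℕ := [1, 3]
def gs : List ℕ := [29, 8, 27, 14, 18, 23, 25, 26]
def XD : Ext := [(1, 1, 0), (3, 3, 0), (4, 0, 0x203030302030301010302), (5, 5, 0), (6, 0, 0x30301040203030302), (7, 7, 0), (8, 0, 0x607050706060806), (9, 9, 0), (10, 0, 0x6060706060705), (11, 11, 0), (12, 0, 0xa0a0a0c0a0b), (13, 13, 0), (14, 0, 0x909090b0a0b090b0b), (15, 15, 0), (16, 0, 0x100e), (17, 17, 0), (18, 0, 0xe0f0d0f0d), (19, 19, 0), (20, 0, 0x121311), (21, 21, 0), (22, 0, 0x1313), (23, 0, 0x171517), (24, 24, 0), (25, 0, 0x1919), (26, 0, 0xa0c), (27, 27, 0), (28, 0, 0x204), (29, 29, 0)]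

/-- all the equations of the certificate -/
structure Eqs {G : Type*} [Group G] (g : ℕ → G) : Prop where
  l7 : AllHold g L7.eqns
  x7 : AllHold g X7.eqns
  l6 : AllHold g L6.eqns
  x6 : AllHold g X6.eqns
  l5 : AllHold g L5.eqns
  x5 : AllHold g X5.eqns
  l4 : AllHold g L4.eqns
  x4 : AllHold g X4.eqns
  l3 : AllHold g L3.eqns
  x3 : AllHold g X3.eqns
  l2 : AllHold g L2.eqns
  x2 : AllHold g X2.eqns
  l1 : AllHold g L1.eqns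
  x1 : AllHold g X1.eqns
  l0 : AllHold g L0.eqns
  x0 : AllHold g X0.eqns
  xd : AllHold g XD.eqns

end CfsgLib.SuzR3.R
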